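import Mathlib

/-! Finitely presented modules over rings whose ideals form a chain. -/

universe u

namespace Groth.Agent.ChainRing

variable {R : Type u} [CommRing R]

lemma exists_dvd_all (h : ∀ a b : R, a ∣ b ∨ b ∣ a) {ι : Type*} (s : Finset ι) (hs : s.Nonempty) (c : ι → R) :
    ∃ i ∈ s, ∀ j ∈ s, c i ∣ c j := by
  classical
  induction hs using Finset.Nonempty.cons_induction with
  | singleton a => exact ⟨a, by simp, fun j hj => by rw [Finset.mem_singleton.mp hj]⟩
  | cons a s ha hs ih =>
    obtain ⟨i, hi, hmin⟩ := ih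
    rcases h (c i) (c a) with h' | h'
    · exact ⟨i, Finset.mem_cons_of_mem hi, fun j hj => (Finset.mem_cons.mp hj).elim (fun e => e ▸ h') (hmin j)⟩
    · exact ⟨a, Finset.mem_cons_self a s, fun j hj => (Finset.mem_cons.mp hj).elim (fun e => e ▸ dvd_rfl) (fun hj => h'.trans (hmin j hj))⟩

/-- A finitely generated submodule of `R ^ n` has a diagonal presentation. -/
theorem exists_equiv_pi (h : ∀ a b : R, a ∣ b ∨ b ∣ a) : ∀ (n : ℕ) (K : Submodule R (Fin n → R)), K.FG →
    ∃ f : Fin n → R, Nonempty (((Fin n → R) ⧸ K) ≃ₗ[R] ((i : Fin n) → R ⧸ Ideal.span {f i})) := by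
  classical
  intro n
  induction n with
  | zero =>
    intro K _
    have : Subsingleton ((Fin 0 → R) ⧸ K) := K.mkQ_surjective.subsingleton
    exact ⟨fun i => i.elim0,
      ⟨{ toFun := fun _ i => i.elim0, invFun := fun _ => 0, map_add' := fun _ _ => funext fun i => i.elim0,
         map_smul' := fun _ _ => funext fun i => i.elim0, left_inv := fun _ => Subsingleton.elim _ _,
         right_inv := fun _ => funext fun i => i.elim0 }⟩⟩
  | succ n ih =>
    intro K hK
    obtain ⟨s, hs⟩ := id hK
    obtain ⟨⟨k, j⟩, hkj, hmin⟩ := exists_dvd_all h (insert (0 : Fin (n + 1) → R) s ×ˢ (Finset.univ : Finset (Fin (n + 1))))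
      ⟨(0, 0), by simp⟩ (fun p => p.1 p.2)
    have hk : k ∈ K := by
      rcases Finset.mem_insert.mp (Finset.mem_product.mp hkj).1 with rfl | hk
      · exact K.zero_mem
      · exact hs ▸ Submodule.subset_span hk
    set c := k j with hc
    have hdvd : ∀ x ∈ K, ∀ l, c ∣ x l := fun x hx l => by
      rw [← hs] at hx
      induction hx using Submodule.span_induction with
      | mem y hy => exact hmin (y, l) (by simp [Finset.mem_coe.mp hy])
      | zero => simp
      | add y z _ _ hy hz => simpa using dvd_add hy hz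
      | smul a y _ hy => simpa using hy.mul_left a
    choose v₀ hv₀ using fun l => hdvd k hk l
    let v : Fin (n + 1) → R := Function.update v₀ j 1
    have hv : ∀ l, k l = c * v l := fun l => by
      rcases eq_or_ne l j with rfl | hl
      · simp [v, hc]
      · simp [v, hl, ← hv₀]
    let ψ : (Fin (n + 1) → R) →ₗ[R] (Fin n → R) :=
      LinearMap.pi fun l => LinearMap.proj (j.succAbove l) - v (j.succAbove l) • LinearMap.proj j
    have hψ : ∀ x l, ψ x l = x (j.succAbove l) - v (j.succAbove l) * x j := fun x l => by simp [ψ]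
    obtain ⟨f, ⟨e⟩⟩ := ih (K.map ψ) (hK.map ψ)
    refine ⟨j.insertNth c f, ?_⟩
    let φ : (Fin (n + 1) → R) →ₗ[R] ((i : Fin (n + 1)) → R ⧸ Ideal.span {(j.insertNth c f : Fin (n + 1) → R) i}) :=
      LinearMap.pi (j.succAboveCases
        (Submodule.mkQ (Ideal.span {(j.insertNth c f : Fin (n + 1) → R) j}) ∘ₗ LinearMap.proj j)
        (fun l => (Submodule.quotEquivOfEq (Ideal.span {f l}) (Ideal.span {(j.insertNth c f : Fin (n + 1) → R) (j.succAbove l)}) (by rw [Fin.insertNth_apply_succAbove])).toLinearMap ∘ₗ LinearMap.proj l ∘ₗ e.toLinearMap ∘ₗ Submodule.mkQ (K.map ψ) ∘ₗ ψ))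
    have hφj : ∀ x, φ x j = Submodule.Quotient.mk (x j) := fun x => by
      simp [φ]
    have hφl : ∀ x l, φ x (j.succAbove l) = Submodule.quotEquivOfEq (Ideal.span {f l}) _ (by rw [Fin.insertNth_apply_succAbove]) (e (Submodule.Quotient.mk (ψ x)) l) := fun x l => by
      simp [φ]
    have hcj : (j.insertNth c f : Fin (n + 1) → R) j = c := Fin.insertNth_apply_same _ _ _
    have hker : LinearMap.ker φ = K := by
      refine le_antisymm (fun x hx => ?_) (fun x hx => ?_)
      · rw [LinearMap.mem_ker] at hx
        have h1 : c ∣ x j := by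
          have := congrFun hx j
          rw [hφj, Pi.zero_apply, Submodule.Quotient.mk_eq_zero, hcj, Ideal.mem_span_singleton] at this
          exact this
        have h2 : ψ x ∈ K.map ψ := by
          rw [← Submodule.Quotient.mk_eq_zero, ← LinearEquiv.map_eq_zero_iff e]
          funext l
          have := congrFun hx (j.succAbove l)
          rwa [hφl, Pi.zero_apply, LinearEquiv.map_eq_zero_iff] at this
        obtain ⟨x', hx', hψx⟩ := Submodule.mem_map.mp h2
        obtain ⟨a, ha⟩ := dvd_sub h1 (hdvd x' hx' j)
        have : x = x' + a • k := by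
          funext l
          rcases j.eq_self_or_eq_succAbove l with rfl | ⟨l, rfl⟩
          · simp only [Pi.add_apply, Pi.smul_apply, smul_eq_mul]; linear_combination ha
          · have h3 := congrFun hψx l
            rw [hψ, hψ] at h3
            simp only [Pi.add_apply, Pi.smul_apply, smul_eq_mul, hv]
            linear_combination (v (j.succAbove l)) * ha - h3
        rw [this]
        exact K.add_mem hx' (K.smul_mem a hk)
      · rw [LinearMap.mem_ker]
        funext i
        rcases j.eq_self_or_eq_succAbove i with hi | ⟨l, hi⟩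
        · subst hi
          rw [hφj, Pi.zero_apply, Submodule.Quotient.mk_eq_zero, hcj, Ideal.mem_span_singleton]
          exact hdvd x hx _
        · subst hi
          rw [hφl, Pi.zero_apply, (Submodule.Quotient.mk_eq_zero _).mpr (Submodule.mem_map_of_mem hx), map_zero, Pi.zero_apply, map_zero]
    have hsurj : Function.Surjective φ := fun y => by
      obtain ⟨a, ha⟩ := Submodule.Quotient.mk_surjective _ (y j)
      obtain ⟨w, hw⟩ := Submodule.Quotient.mk_surjective _
        (e.symm fun l => (Submodule.quotEquivOfEq (Ideal.span {f l}) _ (by rw [Fin.insertNth_apply_succAbove])).symm (y (j.succAbove l)))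
      refine ⟨(j.insertNth a fun l => w l + v (j.succAbove l) * a : Fin (n + 1) → R), funext fun i => ?_⟩
      have hψw : ψ (j.insertNth a fun l => w l + v (j.succAbove l) * a : Fin (n + 1) → R) = w := funext fun l => by
        rw [hψ, Fin.insertNth_apply_succAbove, Fin.insertNth_apply_same]; ring
      rcases j.eq_self_or_eq_succAbove i with hi | ⟨l, hi⟩
      · subst hi
        rw [hφj]; exact (congrArg Submodule.Quotient.mk (Fin.insertNth_apply_same (α := fun _ => R) _ _ _)).trans ha
      · subst hi
        rw [hφl, hψw, hw, LinearEquiv.apply_symm_apply, LinearEquiv.apply_symm_apply]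
    exact ⟨(Submodule.quotEquivOfEq _ _ hker.symm).trans (LinearMap.quotKerEquivOfSurjective φ hsurj)⟩

/-- A finitely presented module over a chain ring is a sum of cyclic modules. -/
theorem exists_equiv_of_finitePresentation (h : ∀ a b : R, a ∣ b ∨ b ∣ a) (M : Type u) [AddCommGroup M]
    [Module R M] [Module.FinitePresentation R M] :
    ∃ (n : ℕ) (f : Fin n → R), Nonempty (M ≃ₗ[R] ((i : Fin n) → R ⧸ Ideal.span {f i})) := by
  obtain ⟨n, K, e, hK⟩ := Module.FinitePresentation.exists_fin R M
  obtain ⟨f, ⟨e'⟩⟩ := exists_equiv_pi h n K hK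
  exact ⟨n, f, ⟨e.trans e'⟩⟩

end Groth.Agent.ChainRing
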